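import Groth.Agent.Lib.Helper39.IntCl.Peskine

/-!
# Integral closure as an intersection over height-one primes

For a Noetherian domain `A` such that height-one primes of finite birational integral extensions
contract to height-one primes, the integral closure `A'` in the fraction field is `⋂ A'_p` over
the height-one primes of `A`.
-/

universe u

namespace Groth.Agent.Lib.Helper39.IntCl

open Polynomial

theorem one_le_height_of_ne_bot' {B : Type*} [CommRing B] [IsDomain B] (I : Ideal B) (hI : I ≠ ⊥) :
    1 ≤ I.height := by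
  rw [Ideal.height_eq_inf_minimalPrimes]
  refine le_iInf₂ fun Q hQ => ?_
  have hQp : Q.IsPrime := hQ.1.1
  rw [Order.one_le_iff_ne_zero, Ne, Ideal.height_eq_zero_iff_eq_bot]
  rintro rfl
  exact hI (le_bot_iff.1 hQ.1.2)

section

variable {A : Type u} [CommRing A] {K : Type u} [Field K] [Algebra A K]

theorem aeval_adjoin_surjective (y : K) :
    Function.Surjective
      (aeval (R := A) (⟨y, Algebra.self_mem_adjoin_singleton A y⟩ : Algebra.adjoin A {y})) := by
  rintro ⟨b, hb⟩
  rw [Algebra.adjoin_singleton_eq_range_aeval] at hb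
  obtain ⟨g, hg⟩ := hb
  refine ⟨g, Subtype.ext ?_⟩
  rw [← Subalgebra.aeval_coe]
  exact hg

end

/-- From a prime `P` of height `≤ 1` of a domain `B = A[y]` containing `y` (and a nonzero element
of `A`) we get `r ∉ P` integral over `A` with `r y` integral over `A`. -/
theorem exists_integral_multiplier {A B : Type*} [CommRing A] [CommRing B] [IsDomain B]
    [Algebra A B] (hinj : Function.Injective (algebraMap A B)) (yB : B)
    (hφ : Function.Surjective (aeval (R := A) yB))
    (P : Ideal B) [P.IsPrime] (hP : P.height ≤ 1) (hyP : yB ∈ P)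
    (a₀ : A) (ha₀ : a₀ ≠ 0) (ha₀P : algebraMap A B a₀ ∈ P) :
    ∃ r : B, r ∉ P ∧ IsIntegral A r ∧ IsIntegral A (r * yB) := by
  classical
  let φ : A[X] →+* B := ((aeval yB : A[X] →ₐ[A] B) : A[X] →+* B)
  have hφ' : Function.Surjective φ := hφ
  have hφC : ∀ a, φ (C a) = algebraMap A B a := fun a => by simp [φ]
  have hφX : φ X = yB := by simp [φ]
  let p : Ideal A := P.comap (algebraMap A B)
  haveI hpprime : p.IsPrime := Ideal.comap_isPrime _ _
  have ha₀p : a₀ ∈ p := ha₀P
  -- existence of a relation with a coefficient outside `p`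
  have hrel : ∃ f : A[X], aeval yB f = 0 ∧ ∃ j, f.coeff j ∉ p := by
    by_contra hcon
    push Not at hcon
    have hker : RingHom.ker φ ≤ Ideal.map C p := by
      intro f hf
      rw [Ideal.mem_map_C_iff]
      exact hcon f hf
    have hQprime : (Ideal.map φ (Ideal.map C p)).IsPrime :=
      Ideal.map_isPrime_of_surjective hφ' hker
    set Q₀ := Ideal.map φ (Ideal.map C p) with hQ₀
    have hQle : Q₀ ≤ P := by
      rw [hQ₀, Ideal.map_le_iff_le_comap, Ideal.map_le_iff_le_comap]
      intro a ha
      show φ (C a) ∈ P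
      rw [hφC]; exact ha
    have hyQ : yB ∉ Q₀ := by
      intro hmem
      rw [hQ₀, Ideal.mem_map_iff_of_surjective φ hφ'] at hmem
      obtain ⟨g, hg, hgy⟩ := hmem
      have hker' : g - X ∈ RingHom.ker φ := by
        rw [RingHom.mem_ker, map_sub, hgy, hφX, sub_self]
      have hXmem : (X : A[X]) ∈ Ideal.map C p := by
        have := (Ideal.map C p).sub_mem hg (hker hker')
        simpa using this
      rw [Ideal.mem_map_C_iff] at hXmem
      have h1 := hXmem 1
      rw [coeff_X_one] at h1
      exact hpprime.ne_top ((Ideal.eq_top_iff_one _).2 h1)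
    have hQlt : Q₀ < P := lt_of_le_of_ne hQle (fun h => hyQ (h ▸ hyP))
    have hQne : Q₀ ≠ ⊥ := by
      intro hbot
      have hmem : algebraMap A B a₀ ∈ Q₀ := by
        rw [← hφC]
        exact Ideal.mem_map_of_mem _ (Ideal.mem_map_of_mem _ ha₀p)
      rw [hbot, Ideal.mem_bot] at hmem
      exact ha₀ (hinj (by rw [hmem, map_zero]))
    have h1 : Q₀.height < 1 := Ideal.height_le_iff.mp (by exact_mod_cast hP) Q₀ hQprime hQlt
    have h2 : 1 ≤ Q₀.height := one_le_height_of_ne_bot' Q₀ hQne
    exact absurd h2 (not_le.2 h1)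
  obtain ⟨f, hf', j, hj⟩ := hrel
  have hU : ∀ i, IsIntegral A (aeval yB (divX^[i] f)) := isIntegral_aeval_iterate_divX yB f hf'
  have hUj : aeval yB (divX^[j] f) ∉ P := by
    intro hmem
    rw [aeval_iterate_divX_succ yB f j] at hmem
    have h1 : aeval yB (divX^[j + 1] f) * yB ∈ P := P.mul_mem_left _ hyP
    have h2 : algebraMap A B (f.coeff j) ∈ P := by
      have := P.sub_mem hmem h1
      simpa using this
    exact hj h2
  have hj0 : j ≠ 0 := by
    rintro rfl
    apply hUj
    simp only [Function.iterate_zero, id_eq]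
    rw [hf']
    exact P.zero_mem
  obtain ⟨j', rfl⟩ := Nat.exists_eq_succ_of_ne_zero hj0
  refine ⟨aeval yB (divX^[j' + 1] f), hUj, hU _, ?_⟩
  have : aeval yB (divX^[j' + 1] f) * yB
      = aeval yB (divX^[j'] f) - algebraMap A B (f.coeff j') := by
    rw [aeval_iterate_divX_succ yB f j']; ring
  rw [this]
  exact (hU j').sub isIntegral_algebraMap

variable {A : Type u} [CommRing A] [IsDomain A] [IsNoetherianRing A]

theorem mem_integralClosure_of_forall_height_one
    (h : ∀ C : Subalgebra A (FractionRing A), C ≤ integralClosure A (FractionRing A) →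
      Module.Finite A C →
      ∀ (q : Ideal C) [q.IsPrime], q.height = 1 → (q.comap (algebraMap A C)).height = 1)
    (x : FractionRing A)
    (hx : ∀ p : PrimeSpectrum A, p.asIdeal.height = 1 → ∃ s : A, s ∉ p.asIdeal ∧
      algebraMap A (FractionRing A) s * x ∈ integralClosure A (FractionRing A)) :
    x ∈ integralClosure A (FractionRing A) := by
  classical
  by_contra hxi
  have hx0 : x ≠ 0 := by
    rintro rfl
    exact hxi (Subalgebra.zero_mem _)
  set y := x⁻¹ with hy
  have hy0 : y ≠ 0 := inv_ne_zero hx0
  have hyx : y * x = 1 := inv_mul_cancel₀ hx0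
  set B := Algebra.adjoin A {y} with hB
  set yB : B := ⟨y, Algebra.self_mem_adjoin_singleton A y⟩ with hyB
  have hφ := aeval_adjoin_surjective (A := A) y
  haveI : IsNoetherianRing B :=
    isNoetherianRing_of_surjective A[X] B (aeval (R := A) yB : A[X] →+* B) hφ
  -- `x ∉ B`
  have hxB : x ∉ B := by
    intro hmem
    apply hxi
    have : IsIntegral (Algebra.adjoin A {y}) x := by
      have : x = algebraMap B (FractionRing A) ⟨x, hmem⟩ := rfl
      rw [this]
      exact isIntegral_algebraMap
    exact isIntegral_of_isIntegral_adjoin_of_mul_eq_one x y hyx this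
  have hunit : ¬ IsUnit yB := by
    intro hu
    obtain ⟨u, hu⟩ := hu.exists_right_inv
    apply hxB
    have h1 : y * (u : FractionRing A) = 1 := by
      have := congrArg Subtype.val hu
      simpa using this
    have : (u : FractionRing A) = x := by
      have h2 : (u : FractionRing A) = y⁻¹ := eq_inv_of_mul_eq_one_right h1
      rw [h2, hy, inv_inv]
    rw [← this]
    exact u.2
  have hne : Ideal.span {yB} ≠ ⊤ := by
    rwa [Ne, Ideal.span_singleton_eq_top]
  obtain ⟨⟨P, hPmin⟩⟩ := Ideal.nonempty_minimalPrimes hne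
  haveI hPprime : P.IsPrime := hPmin.1.1
  have hyP : yB ∈ P := hPmin.1.2 (Ideal.mem_span_singleton_self _)
  have hPht : P.height ≤ 1 :=
    Ideal.height_le_one_of_isPrincipal_of_mem_minimalPrimes (Ideal.span {yB}) P hPmin
  have hinjB : Function.Injective (algebraMap A B) := by
    intro a b hab
    exact IsFractionRing.injective A (FractionRing A) (congrArg Subtype.val hab)
  obtain ⟨a₀, b₀, hb₀, hab⟩ := IsFractionRing.div_surjective (A := A) y
  have hb₀' : algebraMap A (FractionRing A) b₀ ≠ 0 := by
    intro h0
    exact (nonZeroDivisors.ne_zero hb₀)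
      (IsFractionRing.injective A (FractionRing A) (by simpa using h0))
  have ha₀ : a₀ ≠ 0 := by
    rintro rfl
    rw [map_zero, zero_div] at hab
    exact hy0 hab.symm
  have ha₀P : algebraMap A B a₀ ∈ P := by
    have : algebraMap A B a₀ = yB * algebraMap A B b₀ := by
      apply Subtype.ext
      show algebraMap A (FractionRing A) a₀ = y * algebraMap A (FractionRing A) b₀
      rw [← hab]; field_simp
    rw [this]
    exact P.mul_mem_right _ hyP
  obtain ⟨r, hrP, hr, hry⟩ := exists_integral_multiplier hinjB yB hφ P hPht hyP a₀ ha₀ ha₀P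
  -- move to `K`
  set rK : FractionRing A := (r : FractionRing A) with hrK
  set cK : FractionRing A := rK * y with hcK
  have hrKint : IsIntegral A rK := hr.map (B.val)
  have hcKint : IsIntegral A cK := by
    have := hry.map (B.val)
    simpa using this
  have hr0 : rK ≠ 0 := by
    intro h0
    apply hrP
    have : r = 0 := Subtype.ext h0
    rw [this]; exact P.zero_mem
  set C' : Subalgebra A (FractionRing A) := Algebra.adjoin A {rK, cK} with hC'
  have hC'le : C' ≤ integralClosure A (FractionRing A) := by
    apply Algebra.adjoin_le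
    rintro z (rfl | rfl)
    · exact hrKint
    · exact hcKint
  haveI hC'fin : Module.Finite A C' := by
    apply Algebra.finite_adjoin_of_finite_of_isIntegral (Set.toFinite _)
    rintro z (rfl | rfl)
    · exact hrKint
    · exact hcKint
  haveI : IsNoetherianRing C' := IsNoetherianRing.of_finite A C'
  have hC'B : C' ≤ B := by
    apply Algebra.adjoin_le
    rintro z (rfl | rfl)
    · exact r.2
    · exact (r * yB).2
  let ι : C' →ₐ[A] B := Subalgebra.inclusion hC'B
  set rC : C' := ⟨rK, Algebra.subset_adjoin (by simp)⟩ with hrC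
  set cC : C' := ⟨cK, Algebra.subset_adjoin (by simp)⟩ with hcC
  have hιr : ι rC = r := Subtype.ext rfl
  have hιc : ι cC = r * yB := Subtype.ext rfl
  let q : Ideal C' := P.comap (ι : C' →+* B)
  haveI hqprime : q.IsPrime := Ideal.comap_isPrime _ _
  have hcq : cC ∈ q := by
    show ι cC ∈ P
    rw [hιc]; exact P.mul_mem_left _ hyP
  have hrq : rC ∉ q := by
    intro hmem
    apply hrP
    have : ι rC ∈ P := hmem
    rwa [hιr] at this
  obtain ⟨q', hq'min, hq'le⟩ := Ideal.exists_minimalPrimes_le (I := Ideal.span {cC}) (J := q)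
    ((Ideal.span_singleton_le_iff_mem _).2 hcq)
  haveI hq'prime : q'.IsPrime := hq'min.1.1
  have hcq' : cC ∈ q' := hq'min.1.2 (Ideal.mem_span_singleton_self _)
  have hrq' : rC ∉ q' := fun hmem => hrq (hq'le hmem)
  have hc0 : cC ≠ 0 := by
    intro h0
    have : cK = 0 := congrArg Subtype.val h0
    rw [hcK] at this
    rcases mul_eq_zero.1 this with h1 | h1
    · exact hr0 h1
    · exact hy0 h1
  have hq'ht : q'.height = 1 := by
    apply le_antisymm
    · exact Ideal.height_le_one_of_isPrincipal_of_mem_minimalPrimes (Ideal.span {cC}) q' hq'min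
    · apply one_le_height_of_ne_bot'
      intro hbot
      rw [hbot, Ideal.mem_bot] at hcq'
      exact hc0 hcq'
  have hp'ht := h C' hC'le hC'fin q' hq'ht
  obtain ⟨s, hs, hsx⟩ := hx ⟨q'.comap (algebraMap A C'), Ideal.comap_isPrime _ _⟩ hp'ht
  -- clear denominators
  set z := algebraMap A (FractionRing A) s * x with hz
  have hzint : IsIntegral C' z := IsIntegral.tower_top (R := A) hsx
  obtain ⟨g, hgm, hg0⟩ := hzint
  have hinjC : Function.Injective (algebraMap C' (FractionRing A)) := Subtype.val_injective
  have hmul : algebraMap C' (FractionRing A) cC * z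
      = algebraMap C' (FractionRing A) (algebraMap A C' s * rC) := by
    show cK * z = (algebraMap A C' s * rC : C')
    have : ((algebraMap A C' s * rC : C') : FractionRing A)
        = algebraMap A (FractionRing A) s * rK := rfl
    rw [this, hz, hcK, hy]
    field_simp
  have hdvd := Polynomial.dvd_pow_natDegree_of_eval₂_eq_zero hinjC hgm cC
    (algebraMap A C' s * rC) z hg0 hmul
  have hmem : (algebraMap A C' s * rC) ^ g.natDegree ∈ q' := by
    obtain ⟨w, hw⟩ := hdvd
    rw [hw]
    exact q'.mul_mem_right _ hcq'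
  have hmem' := hq'prime.mem_of_pow_mem _ hmem
  rcases hq'prime.mem_or_mem hmem' with h1 | h1
  · exact hs h1
  · exact hrq' h1

end Groth.Agent.Lib.Helper39.IntCl
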