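import Mathlib

/-!
# Peskine's lemma on integrality of partial Horner sums

If `y` is a root of `a_n T^n + ... + a_0`, the partial sums
`u_i = a_n y^(n-i) + ... + a_i` are integral over the base ring.  We state it abstractly for a
sequence satisfying the Horner recursion.
-/

namespace Groth.Agent.Lib.Helper39.IntCl

open Polynomial

variable {A B : Type*} [CommRing A] [CommRing B] [Algebra A B]

/-- If `v` is integral and `v y^(n+1) + ∑_{k ≤ n} a_k y^k = 0`, then `v y` is integral. -/
theorem isIntegral_mul_of_rel (v y : B) (hv : IsIntegral A v) (n : ℕ) (a : ℕ → A)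
    (h : v * y ^ (n + 1) + ∑ k ∈ Finset.range (n + 1), algebraMap A B (a k) * y ^ k = 0) :
    IsIntegral A (v * y) := by
  classical
  let A₁ := integralClosure A B
  let c : ℕ → A₁ := fun k => ⟨algebraMap A B (a k) * v ^ (n - k),
    (isIntegral_algebraMap).mul (hv.pow _)⟩
  let p : A₁[X] := X ^ (n + 1) + ∑ k ∈ Finset.range (n + 1), C (c k) * X ^ k
  have hdeg : (∑ k ∈ Finset.range (n + 1), C (c k) * X ^ k : A₁[X]).degree < ((n + 1 : ℕ) : WithBot ℕ) := by
    refine (Polynomial.degree_sum_le _ _).trans_lt ?_
    refine (Finset.sup_lt_iff (WithBot.bot_lt_coe _)).2 fun k hk => ?_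
    refine (degree_C_mul_X_pow_le _ _).trans_lt ?_
    exact_mod_cast Finset.mem_range.1 hk
  have hmonic : p.Monic := Polynomial.monic_X_pow_add hdeg
  have hterm : ∀ k ∈ Finset.range (n + 1),
      ((c k : A₁) : B) * (v * y) ^ k = v ^ n * (algebraMap A B (a k) * y ^ k) := by
    intro k hk
    have hk' : k ≤ n := Nat.lt_succ_iff.1 (Finset.mem_range.1 hk)
    have e : v ^ (n - k) * v ^ k = v ^ n := by rw [← pow_add, Nat.sub_add_cancel hk']
    simp only [c, mul_pow]
    linear_combination (algebraMap A B (a k) * y ^ k) * e
  have heval : aeval (v * y) p = 0 := by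
    simp only [p, map_add, map_pow, aeval_X, map_sum, map_mul, aeval_C]
    have : ∀ k ∈ Finset.range (n + 1),
        (algebraMap A₁ B (c k)) * (v * y) ^ k = v ^ n * (algebraMap A B (a k) * y ^ k) := hterm
    rw [Finset.sum_congr rfl this, ← Finset.mul_sum]
    linear_combination v ^ n * h
  have h1 : IsIntegral A₁ (v * y) := ⟨p, hmonic, heval⟩
  exact isIntegral_trans _ h1

/-- **Peskine's lemma**, abstract Horner form. -/
theorem isIntegral_horner (y : B) (a : ℕ → A) (U : ℕ → B)
    (hrec : ∀ i, U i = U (i + 1) * y + algebraMap A B (a i)) (h0 : U 0 = 0)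
    (N : ℕ) (hN : ∀ i, N ≤ i → U i = 0) : ∀ i, IsIntegral A (U i) := by
  have rel : ∀ i, U i * y ^ i + ∑ k ∈ Finset.range i, algebraMap A B (a k) * y ^ k = 0 := by
    intro i
    induction i with
    | zero => simpa using h0
    | succ i ih =>
      rw [Finset.sum_range_succ]
      rw [hrec i] at ih
      linear_combination ih
  have key : ∀ d i, N ≤ i + d → IsIntegral A (U i) := by
    intro d
    induction d with
    | zero =>
      intro i hi
      rw [hN i (by simpa using hi)]
      exact isIntegral_zero
    | succ d ih =>
      intro i hi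
      have hv : IsIntegral A (U (i + 1)) := ih (i + 1) (by omega)
      have := isIntegral_mul_of_rel (U (i + 1)) y hv i a (rel (i + 1))
      rw [hrec i]
      exact this.add isIntegral_algebraMap
  intro i
  exact key N i (by omega)

/-- Polynomial form: the Horner partial sums of a polynomial killing `y`. -/
theorem isIntegral_aeval_iterate_divX (y : B) (f : A[X]) (hf : aeval y f = 0) (i : ℕ) :
    IsIntegral A (aeval y (divX^[i] f)) := by
  have hcoeff : ∀ i n, (divX^[i] f).coeff n = f.coeff (n + i) := by
    intro i
    induction i with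
    | zero => intro n; simp
    | succ i ih =>
      intro n
      rw [Function.iterate_succ_apply', coeff_divX, ih]
      congr 1; omega
  refine isIntegral_horner y (fun i => f.coeff i) (fun i => aeval y (divX^[i] f)) ?_ (by simpa using hf)
    (f.natDegree + 1) ?_ i
  · intro i
    have := divX_mul_X_add (divX^[i] f)
    rw [hcoeff, zero_add] at this
    conv_lhs => rw [← this]
    rw [Function.iterate_succ_apply']
    simp [Algebra.algebraMap_eq_smul_one]
  · intro i hi
    have : divX^[i] f = 0 := by
      ext n
      rw [hcoeff, coeff_zero]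
      exact coeff_eq_zero_of_natDegree_lt (by omega)
    simp [this]

/-- Recursion for the Horner partial sums. -/
theorem aeval_iterate_divX_succ (y : B) (f : A[X]) (i : ℕ) :
    aeval y (divX^[i] f) = aeval y (divX^[i + 1] f) * y + algebraMap A B (f.coeff i) := by
  have hcoeff : ∀ i n, (divX^[i] f).coeff n = f.coeff (n + i) := by
    intro i
    induction i with
    | zero => intro n; simp
    | succ i ih =>
      intro n
      rw [Function.iterate_succ_apply', coeff_divX, ih]
      congr 1; omega
  have := divX_mul_X_add (divX^[i] f)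
  rw [hcoeff, zero_add] at this
  conv_lhs => rw [← this]
  rw [Function.iterate_succ_apply']
  simp [Algebra.algebraMap_eq_smul_one]

end Groth.Agent.Lib.Helper39.IntCl
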